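import Groth.Agent.Lib.GrpdSlice19.Cut
import Groth.Agent.Lib.GrpdSlice19.Main
import Groth.Agent.Lib.Slice.FieldImage
import Groth.Agent.Lib.Slice.Saturation
import Groth.Agent.Lib.WeilExt.Apply
import Groth.Agent.Lib.Depth.CM
import Mathlib.RingTheory.DedekindDomain.PID
import Groth.Agent.Lib.FibDim14.Comp

/-!
# Slicing a smooth pair of maps at a point of finite type

For `s, t : A ⟶ U` with `s` smooth and `A ⟶ U ×_S U` locally quasi-finite, the points of `A` lying
over a finite type point of `U` along both maps have algebraic residue extensions, so equations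
from `U` cut the fibres of `s` down to dimension zero.
-/

set_option linter.style.haveILetI false
set_option backward.isDefEq.respectTransparency.types false
set_option autoImplicit false
universe u

open CategoryTheory CategoryTheory.Limits AlgebraicGeometry

namespace Groth.Agent.QdmSlice16

/-- the residue extension at a point of a scheme over a field with a second locally quasi-finite
companion map to the same field is algebraic -/
theorem rd_eq_zero_of_two_maps {B S : Scheme.{u}} {K : Type u} [Field K] (p₁ p₂ : B ⟶ Spec (CommRingCat.of K))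
    (q : Spec (CommRingCat.of K) ⟶ S) (w : p₁ ≫ q = p₂ ≫ q) [LocallyOfFiniteType p₁]
    [LocallyQuasiFinite (pullback.lift p₁ p₂ w)] (b : B) : FibDim14.rd p₁ b = 0 := by
  let φ : B ⟶ pullback q q := pullback.lift p₁ p₂ w
  haveI : LocallyOfFiniteType φ :=
    have : LocallyOfFiniteType (φ ≫ pullback.fst q q) := by rw [pullback.lift_fst]; infer_instance
    locallyOfFiniteType_of_comp φ (pullback.fst q q)
  obtain ⟨W, hW, hbW, -⟩ := exists_isAffineOpen_mem_and_subset (X := B) (x := b) (U := ⊤) trivial
  let L := B.residueField b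
  let ev : Γ(B, W) ⟶ L := B.presheaf.germ W b hbW ≫ B.residue b
  have hev : B.fromSpecResidueField b = Spec.map ev ≫ hW.fromSpec := by
    rw [Scheme.fromSpecResidueField, ← hW.fromSpecStalk_eq_fromSpecStalk hbW, Spec.map_comp, Category.assoc]
    rfl
  let φ₁ : CommRingCat.of K ⟶ Γ(B, W) := Spec.preimage (hW.fromSpec ≫ p₁)
  let φ₂ : CommRingCat.of K ⟶ Γ(B, W) := Spec.preimage (hW.fromSpec ≫ p₂)
  have hφ₁ : Spec.map φ₁ = hW.fromSpec ≫ p₁ := Spec.map_preimage _
  have hφ₂ : Spec.map φ₂ = hW.fromSpec ≫ p₂ := Spec.map_preimage _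
  have hft : φ₁.hom.FiniteType := by
    refine (HasRingHomProperty.Spec_iff (P := @LocallyOfFiniteType)).1 ?_
    rw [hφ₁]
    infer_instance
  -- the affine neighbourhood modulo the point
  letI algL : Algebra K L := (φ₁ ≫ ev).hom.toAlgebra
  letI algW : Algebra K Γ(B, W) := φ₁.hom.toAlgebra
  haveI : Algebra.FiniteType K Γ(B, W) := hft
  let D := Γ(B, W) ⧸ RingHom.ker ev.hom
  haveI : (RingHom.ker ev.hom).IsPrime := RingHom.ker_isPrime _
  haveI : Algebra.FiniteType K D :=
    (inferInstance : Algebra.FiniteType K Γ(B, W)).of_surjective (Ideal.Quotient.mkₐ K _) Ideal.Quotient.mk_surjective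
  let incD : D →ₐ[K] L :=
    { __ := RingHom.kerLift ev.hom
      commutes' := fun r => rfl }
  have hincD : Function.Injective incD := RingHom.kerLift_injective ev.hom
  have halg₂ : ∀ x : K, IsAlgebraic K ((φ₂ ≫ ev).hom x) := fun x =>
    (Slice.isAlgebraic_of_field_hom (k := K) (D := D) ((Ideal.Quotient.mk _).comp φ₂.hom) x).algHom incD
  -- both maps factor through the algebraic closure
  let E := algebraicClosure K L
  let incl : CommRingCat.of E ⟶ L := CommRingCat.ofHom (algebraMap E L)
  let σE : CommRingCat.of K ⟶ CommRingCat.of E := CommRingCat.ofHom (algebraMap K E)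
  let τE : CommRingCat.of K ⟶ CommRingCat.of E :=
    CommRingCat.ofHom ((φ₂ ≫ ev).hom.codRestrict E.toSubfield fun x => mem_algebraicClosure_iff.2 (halg₂ x))
  let j : Spec L ⟶ Spec (CommRingCat.of E) := Spec.map incl
  haveI : Flat j := (HasRingHomProperty.Spec_iff (P := @Flat)).2
    (RingHom.flat_algebraMap_iff.2 (inferInstance : Module.Flat E L))
  haveI : Surjective j := ⟨fun x => ⟨IsLocalRing.closedPoint L, Subsingleton.elim (α := PrimeSpectrum E) _ _⟩⟩
  haveI : Epi j := Flat.epi_of_flat_of_surjective j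
  have h₁ : j ≫ Spec.map σE = B.fromSpecResidueField b ≫ p₁ := by
    rw [hev, Category.assoc, ← hφ₁, ← Spec.map_comp, ← Spec.map_comp]
    rfl
  have h₂ : j ≫ Spec.map τE = B.fromSpecResidueField b ≫ p₂ := by
    rw [hev, Category.assoc, ← hφ₂, ← Spec.map_comp, ← Spec.map_comp]
    rfl
  let m : Spec (CommRingCat.of E) ⟶ pullback q q := pullback.lift (Spec.map σE) (Spec.map τE) (by
    rw [← cancel_epi j, ← Category.assoc, h₁, ← Category.assoc, h₂, Category.assoc, Category.assoc, w])
  have hm : j ≫ m = B.fromSpecResidueField b ≫ φ := by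
    apply pullback.hom_ext
    · rw [Category.assoc, pullback.lift_fst, h₁, Category.assoc, pullback.lift_fst]
    · rw [Category.assoc, pullback.lift_snd, h₂, Category.assoc, pullback.lift_snd]
  obtain ⟨⟨z, ρ⟩, hρ⟩ := (Scheme.SpecToEquivOfField E (pullback q q)).symm.surjective m
  replace hρ : Spec.map ρ ≫ (pullback q q).fromSpecResidueField z = m := hρ
  have hz : z = φ b := by
    have h := congrArg (fun r => r (IsLocalRing.closedPoint L)) hm
    have h1 : (B.fromSpecResidueField b ≫ φ) (IsLocalRing.closedPoint L) = φ b :=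
      congrArg φ (B.fromSpecResidueField_apply b _)
    have h2 : (j ≫ m) (IsLocalRing.closedPoint L) = z := by
      rw [← hρ]
      exact (pullback q q).fromSpecResidueField_apply z _
    exact h2.symm.trans (h.trans h1)
  subst hz
  have hres : φ.residueFieldMap b = ρ ≫ incl := by
    apply Spec.map_injective
    rw [← cancel_mono ((pullback q q).fromSpecResidueField (φ b)), Scheme.Hom.SpecMap_residueFieldMap_fromSpecResidueField,
      Spec.map_comp, Category.assoc, hρ, ← hm]
  -- so the residue field is algebraic over the first copy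
  have halg : Algebra.IsAlgebraic K L := by
    have h0 : FibDim14.rdeg φ b = 0 := by
      have h1 := FibDim14.rd_le_fibreDimAt φ (specializes_refl b) rfl
      rw [FibDim14.fibreDimAt_eq_zero φ b] at h1
      have h2 : FibDim14.rd φ b = 0 := Nat.le_zero.1 (by exact_mod_cast h1)
      rw [FibDim14.rdeg_eq_rd, h2, Nat.cast_zero]
    letI : Algebra ((pullback q q).residueField (φ b)) L := (φ.residueFieldMap b).hom.toAlgebra
    haveI : Algebra.IsAlgebraic ((pullback q q).residueField (φ b)) L := trdeg_eq_zero_iff.1 h0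
    refine ⟨fun x => ?_⟩
    obtain ⟨p, hp0, hp⟩ := Algebra.IsAlgebraic.isAlgebraic (R := (pullback q q).residueField (φ b)) x
    have hE : IsAlgebraic E x := by
      refine ⟨p.map ρ.hom, (Polynomial.map_ne_zero_iff ρ.hom.injective).2 hp0, ?_⟩
      rw [Polynomial.aeval_def, Polynomial.eval₂_map]
      rw [Polynomial.aeval_def] at hp
      refine Eq.trans ?_ hp
      congr 1
      exact (congrArg CommRingCat.Hom.hom hres).symm
    exact hE.restrictScalars K
  -- conclusion
  let pre : CommRingCat.of K ⟶ (Spec (CommRingCat.of K)).residueField (p₁ b) :=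
    Spec.preimage ((Spec (CommRingCat.of K)).fromSpecResidueField (p₁ b))
  have hσ : φ₁ ≫ ev = pre ≫ p₁.residueFieldMap b := by
    apply Spec.map_injective
    refine (Spec.map_comp φ₁ ev).trans ?_
    rw [hφ₁, ← Category.assoc, ← hev, Spec.map_comp, Spec.map_preimage,
      Scheme.Hom.SpecMap_residueFieldMap_fromSpecResidueField]
  rw [FibDim14.rd]
  suffices h : FibDim14.rdeg p₁ b = 0 by rw [h, map_zero]
  letI : Algebra ((Spec (CommRingCat.of K)).residueField (p₁ b)) L := (p₁.residueFieldMap b).hom.toAlgebra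
  letI : Algebra K ((Spec (CommRingCat.of K)).residueField (p₁ b)) := pre.hom.toAlgebra
  haveI : IsScalarTower K ((Spec (CommRingCat.of K)).residueField (p₁ b)) L :=
    IsScalarTower.of_algebraMap_eq' (congrArg CommRingCat.Hom.hom hσ)
  haveI := Algebra.IsAlgebraic.tower_top (K := K) ((Spec (CommRingCat.of K)).residueField (p₁ b)) (A := L)
  exact trdeg_eq_zero

/-- the residue extension at a point over a finite type point along both maps is algebraic -/
theorem rd_eq_zero_of_pair {A U S : Scheme.{u}} (s t : A ⟶ U) (q : U ⟶ S) (w : s ≫ q = t ≫ q)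
    [LocallyOfFiniteType s] [LocallyQuasiFinite (pullback.lift s t w)] (u : U)
    (hu : LocallyOfFiniteType (U.fromSpecResidueField u)) (ξ : A) (hs : s ξ = u) (ht : t ξ = u) :
    FibDim14.rd s ξ = 0 := by
  let ι := U.fromSpecResidueField u
  haveI : LocallyOfFiniteType ι := hu
  let f₁ := pullback.fst s ι
  let f₂ := pullback.fst (f₁ ≫ t) ι
  let pr := f₂ ≫ f₁
  let p₁ := f₂ ≫ pullback.snd s ι
  let p₂ := pullback.snd (f₁ ≫ t) ι
  haveI : IsPreimmersion f₁ := MorphismProperty.pullback_fst (P := @IsPreimmersion) _ _ inferInstance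
  haveI : IsPreimmersion f₂ := MorphismProperty.pullback_fst (P := @IsPreimmersion) _ _ inferInstance
  haveI : LocallyOfFiniteType f₂ := MorphismProperty.pullback_fst (P := @LocallyOfFiniteType) _ _ hu
  haveI : LocallyOfFiniteType f₁ := MorphismProperty.pullback_fst (P := @LocallyOfFiniteType) _ _ hu
  have e₁ : p₁ ≫ ι = pr ≫ s := by
    show (f₂ ≫ pullback.snd s ι) ≫ ι = (f₂ ≫ f₁) ≫ s
    rw [Category.assoc, Category.assoc, pullback.condition]
  have e₂ : p₂ ≫ ι = pr ≫ t := by
    show p₂ ≫ ι = (f₂ ≫ f₁) ≫ t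
    rw [Category.assoc, pullback.condition]
  have w' : p₁ ≫ ι ≫ q = p₂ ≫ ι ≫ q := by
    rw [← Category.assoc p₁, e₁, Category.assoc pr, w, ← Category.assoc pr, ← e₂, Category.assoc p₂]
  haveI : LocallyOfFiniteType (pullback.snd s ι) :=
    MorphismProperty.pullback_snd (P := @LocallyOfFiniteType) _ _ inferInstance
  haveI : LocallyOfFiniteType p₁ := inferInstanceAs (LocallyOfFiniteType (f₂ ≫ pullback.snd s ι))
  haveI : LocallyQuasiFinite (pullback.lift p₁ p₂ w') := by
    let M := pullback.map (ι ≫ q) (ι ≫ q) q q ι ι (𝟙 S) (Category.comp_id _) (Category.comp_id _)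
    haveI : LocallyQuasiFinite (pullback.lift p₁ p₂ w' ≫ M) := by
      have e : pullback.lift p₁ p₂ w' ≫ M = pr ≫ pullback.lift s t w := by
        apply pullback.hom_ext
        · rw [Category.assoc, Category.assoc, pullback.lift_fst, pullback.lift_fst, pullback.lift_fst_assoc, e₁]
        · rw [Category.assoc, Category.assoc, pullback.lift_snd, pullback.lift_snd, pullback.lift_snd_assoc, e₂]
      rw [e]
      infer_instance
    exact LocallyQuasiFinite.of_comp _ M
  obtain ⟨ms, hms⟩ := GrpdSlice19.exists_fac_residue s ξ hs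
  obtain ⟨mt, hmt⟩ := GrpdSlice19.exists_fac_residue t ξ ht
  let ω : Spec (A.residueField ξ) ⟶ pullback (f₁ ≫ t) ι :=
    pullback.lift (pullback.lift (A.fromSpecResidueField ξ) ms hms) mt (by
      rw [← Category.assoc, pullback.lift_fst]; exact hmt)
  have hω : ω ≫ pr = A.fromSpecResidueField ξ := by
    show ω ≫ f₂ ≫ f₁ = _
    rw [← Category.assoc, pullback.lift_fst, pullback.lift_fst]
  let b := ω (IsLocalRing.closedPoint _)
  have hb : pr b = ξ := by
    rw [← Scheme.Hom.comp_apply, hω, Scheme.fromSpecResidueField_apply]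
  haveI : @LocallyOfFiniteType _ (Spec (CommRingCat.of (U.residueField u))) p₁ := ‹LocallyOfFiniteType p₁›
  have h0 : FibDim14.rd p₁ b = 0 := rd_eq_zero_of_two_maps (K := U.residueField u) p₁ p₂ (ι ≫ q) w' b
  have h1 := FibDim14.rd_comp pr s b
  have h2 := FibDim14.rd_comp p₁ ι b
  have h3 : FibDim14.rd (pr ≫ s) b = FibDim14.rd (p₁ ≫ ι) b := by
    congr 1
    exact e₁.symm
  have h4 : FibDim14.rd ι (p₁ b) = 0 := FibDim14.rd_of_surjectiveOnStalks ι _
  have h5 : FibDim14.rd pr b = 0 := FibDim14.rd_of_surjectiveOnStalks pr b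
  calc FibDim14.rd s ξ = FibDim14.rd s (pr b) := by rw [hb]
    _ = FibDim14.rd (pr ≫ s) b := by rw [h1, h5, add_zero]
    _ = FibDim14.rd (p₁ ≫ ι) b := h3
    _ = 0 := h2.trans ((congrArg₂ (· + ·) h4 h0).trans rfl)

set_option backward.isDefEq.respectTransparency false in
/-- smooth morphisms are Cohen–Macaulay at every point -/
theorem isCMAt_of_smooth {X Y : Scheme.{u}} (f : X ⟶ Y) [Smooth f] (x : X) : Grpd.IsCMAt f x := by
  rw [GrpdSlice19.isCMAt_iff]
  refine ⟨Flat.stalkMap f x, ?_⟩
  haveI : Smooth (f.fiberToSpecResidueField (f x)) := MorphismProperty.pullback_snd _ _ inferInstance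
  haveI : IsDedekindDomain (Y.residueField (f x)) :=
    have h : IsField (Y.residueField (f x)) := Field.toIsField _
    haveI := h.isPrincipalIdealRing
    haveI := h.isDomain
    IsPrincipalIdealRing.isDedekindDomain _
  haveI := WeilExt.isRegularLocalRing_stalk_of_smooth (A := Y.residueField (f x)) (f.fiberToSpecResidueField (f x))
    (f.asFiber x)
  exact DepthLib.isCohenMacaulayLocalRing_of_isRegularLocalRing

section Induction

variable {A U S : Scheme.{u}} (s t : A ⟶ U) (q : U ⟶ S) (w : s ≫ q = t ≫ q)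

include w in
theorem exists_slices [LocallyOfFinitePresentation s] [LocallyQuasiFinite (pullback.lift s t w)] (u : U)
    (hu : LocallyOfFiniteType (U.fromSpecResidueField u)) :
    ∀ (n : ℕ) (U' : Scheme.{u}) (_ : IsAffine U') (g : U' ⟶ U) (p : ↑(pullback t g)), IsImmersion g →
      LocallyOfFinitePresentation g → g (pullback.snd t g p) = u → (pullback.fst t g ≫ s) p = u →
      Grpd.IsCMAt (pullback.fst t g ≫ s) p →
      FlatMor.fibreDimAt (pullback.fst t g ≫ s) p ≤ (n : WithBot ℕ∞) →
    ∃ (U'' : Scheme.{u}) (_ : IsAffine U'') (g' : U'' ⟶ U) (p' : ↑(pullback t g')), IsImmersion g' ∧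
      LocallyOfFinitePresentation g' ∧ g' (pullback.snd t g' p') = u ∧ (pullback.fst t g' ≫ s) p' = u ∧
      Slice.GoodAt (pullback.fst t g' ≫ s) p' := by
  intro n
  induction n using Nat.strong_induction_on with
  | _ n ih =>
    intro U' hU' g p hg hg' hgu hpu hcm hn
    by_cases he : FlatMor.fibreDimAt (pullback.fst t g ≫ s) p = 0
    · exact ⟨U', hU', g, p, hg, hg', hgu, hpu, hcm.1, (FibDim14.fibreDimAt_eq_zero_iff _ p).1 he⟩
    have hrd : ∀ ξ, (pullback.fst t g ≫ s) ξ = u → g (pullback.snd t g ξ) = u →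
        FibDim14.rd (pullback.fst t g ≫ s) ξ = 0 := by
      intro ξ h1 h2
      have ht : t (pullback.fst t g ξ) = u := by
        rw [← Scheme.Hom.comp_apply, pullback.condition, Scheme.Hom.comp_apply, h2]
      have e1 := rd_eq_zero_of_pair s t q w u hu _ h1 ht
      have e2 := FibDim14.rd_of_surjectiveOnStalks (pullback.fst t g) ξ
      refine (FibDim14.rd_comp (pullback.fst t g) s ξ).trans ?_
      exact Eq.trans (congrArg₂ (· + ·) e1 e2) rfl
    obtain ⟨a, ha, hm, hreg⟩ := GrpdSlice19.exists_equation (pullback.fst t g ≫ s) (pullback.snd t g) p hcm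
      (fun ξ _ h1 h2 h => he (by
        rw [← h, hrd ξ (h1.trans hpu) (by rw [h2, hgu])]
        rfl))
    obtain ⟨v, hv⟩ := GrpdSlice19.exists_cutι_eq a ha
    let g' := GrpdSlice19.cutι a ≫ g
    let k : pullback t g' ⟶ pullback t g :=
      pullback.map t g' t g (𝟙 _) (GrpdSlice19.cutι a) (𝟙 _) (by rw [Category.id_comp, Category.comp_id])
        (Category.comp_id _)
    have hk : k ≫ pullback.fst t g = pullback.fst t g' := (pullback.lift_fst _ _ _).trans (Category.comp_id _)
    have sq : IsPullback k (pullback.snd t g') (pullback.snd t g) (GrpdSlice19.cutι a) := by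
      refine IsPullback.of_right ?_ (pullback.lift_snd _ _ _) (IsPullback.of_hasPullback t g)
      rw [hk]
      exact IsPullback.of_hasPullback t g'
    haveI : IsClosedImmersion k := MorphismProperty.of_isPullback sq.flip inferInstance
    obtain ⟨z, hz⟩ : p ∈ Set.range k := by
      rw [← sq.isoPullback_hom_fst]
      show p ∈ Set.range (⇑(pullback.fst (pullback.snd t g) (GrpdSlice19.cutι a)) ∘ ⇑sq.isoPullback.hom)
      rw [Set.range_comp, Set.range_eq_univ.2 sq.isoPullback.hom.surjective, Set.image_univ,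
        Scheme.Pullback.range_fst]
      exact ⟨v, hv⟩
    have hh : pullback.fst t g' ≫ s = k ≫ pullback.fst t g ≫ s := by rw [← Category.assoc, hk]
    have hsnd : pullback.snd t g (k z) = GrpdSlice19.cutι a (pullback.snd t g' z) := by
      rw [← Scheme.Hom.comp_apply, sq.w, Scheme.Hom.comp_apply]
    have hzg : g' (pullback.snd t g' z) = u := by
      rw [Scheme.Hom.comp_apply, ← hsnd, hz, hgu]
    have hzh : (pullback.fst t g' ≫ s) z = u := by
      rw [hh, Scheme.Hom.comp_apply, hz, hpu]
    rw [← hz] at hcm hm hreg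
    have hrd0 : FibDim14.rd (pullback.fst t g ≫ s) (k z) = 0 := by rw [hz]; exact hrd p hpu hgu
    obtain ⟨h4, h5⟩ := GrpdSlice19.isCMAt_slice (pullback.fst t g ≫ s) k z _
      (GrpdSlice19.ker_stalkMap_cut a sq z) hcm hrd0 hm hreg
    rw [hz, ← hh] at h5
    rw [← hh] at h4
    obtain ⟨x', -, -, hd, -⟩ := FibDim14.exists_fibreDimAt_eq (pullback.fst t g' ≫ s) z
    rw [hd] at h5
    rw [← h5] at hn
    have hlt : FibDim14.rd (pullback.fst t g' ≫ s) x' + 1 ≤ n := by exact_mod_cast hn
    exact ih (FibDim14.rd (pullback.fst t g' ≫ s) x') (by omega) _ inferInstance g' z inferInstance inferInstance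
      hzg hzh h4 hd.le

include w in
/-- a slice of `U` at a finite type point on which the transformed `s` is flat and quasi-finite at
a point over it -/
theorem exists_slice_pair [Smooth s] [LocallyQuasiFinite (pullback.lift s t w)] (u : U)
    (hu : LocallyOfFiniteType (U.fromSpecResidueField u)) (r : A) (hs : s r = u) (ht : t r = u) :
    ∃ (U' : Scheme.{u}) (_ : IsAffine U') (g : U' ⟶ U) (p : ↑(pullback t g)), IsImmersion g ∧
      LocallyOfFinitePresentation g ∧ g (pullback.snd t g p) = u ∧ (pullback.fst t g ≫ s) p = u ∧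
      Slice.GoodAt (pullback.fst t g ≫ s) p := by
  obtain ⟨V, hV, huV, -⟩ := exists_isAffineOpen_mem_and_subset (X := U) (x := u) (U := ⊤) trivial
  obtain ⟨p, hp₁, hp₂⟩ := Scheme.Pullback.exists_preimage_pullback (f := t) (g := V.ι) r ⟨u, huV⟩ ht
  haveI : IsAffine V.toScheme := hV
  have hpu : (pullback.fst t V.ι ≫ s) p = u := by rw [Scheme.Hom.comp_apply, hp₁, hs]
  obtain ⟨x', -, -, hd, -⟩ := FibDim14.exists_fibreDimAt_eq (pullback.fst t V.ι ≫ s) p
  exact exists_slices s t q w u hu _ V.toScheme hV V.ι p inferInstance inferInstance (by rw [hp₂]; rfl) hpu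
    ((GrpdSlice19.isCMAt_comp_left_iff _ s p).2 (isCMAt_of_smooth s _)) hd.le

end Induction

end Groth.Agent.QdmSlice16
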