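import Groth.Agent.Lib.QdmSlice16.Main
import Mathlib.AlgebraicGeometry.Limits

/-!
# Flat, locally quasi-finite covers of quasi-DM stacks; their residual gerbes
-/

universe u

open CategoryTheory CategoryTheory.Functor CategoryTheory.Limits AlgebraicGeometry Opposite

set_option linter.style.haveILetI false
set_option linter.unusedSectionVars false
set_option backward.isDefEq.respectTransparency false
set_option backward.isDefEq.respectTransparency.types false

namespace Groth.Agent.QdmSlice16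

open Groth.Agent.FC16 hiding overMap
open Groth.Agent.StAlg Groth.Agent.StAlg16 AlgSt

variable {S : Scheme.{u}} {𝒳 : AlgSt.Cat S}

theorem fpSnd_id_isEquivOver {𝒴 : AlgSt.Cat S} (f : 𝒳 ⥤ᵇ 𝒴) :
    FibCat.IsEquivOver (FibCat.fpSnd (BasedFunctor.id 𝒴) f) :=
  ⟨FibCat.fpLift f (BasedFunctor.id 𝒳) (Iso.refl _), ⟨BasedNatIso.mkNatIso
    (NatIso.ofComponents (fun x => fpIsoMk x.obj.iso.symm (Iso.refl _) (by
      show x.obj.iso.inv ≫ x.obj.iso.hom = 𝟙 _ ≫ f.map (𝟙 _)
      simp)) (fun {x y} φ => fp_hom_ext (by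
        show f.map φ.hom.snd ≫ y.obj.iso.inv = x.obj.iso.inv ≫ φ.hom.fst
        rw [Iso.eq_inv_comp, ← Category.assoc, Iso.comp_inv_eq]
        exact (fp_w φ).symm) (by
        show φ.hom.snd ≫ 𝟙 _ = 𝟙 _ ≫ φ.hom.snd
        simp)))
    (fun x => @isHomLift_of_fst _ _ _ _ _ _ _ _ _ _ _ _ _ (by
      haveI := iso_lift x (U := (FibCat.fp (BasedFunctor.id 𝒴) f).p.obj x) rfl
      exact inferInstanceAs (𝒴.p.IsHomLift (𝟙 ((FibCat.fp (BasedFunctor.id 𝒴) f).p.obj x)) x.obj.iso.inv)))⟩,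
    ⟨Iso.refl _⟩⟩

/-- every closed point of an affine open is a point of finite type -/
theorem lft_fromSpecResidueField {U : Scheme.{u}} {V : U.Opens} (hV : IsAffineOpen V) (v : Spec Γ(U, V))
    (hv : IsClosed ({v} : Set (Spec Γ(U, V)))) :
    LocallyOfFiniteType (U.fromSpecResidueField (hV.fromSpec v)) := by
  let i := (Spec Γ(U, V)).fromSpecResidueField v
  haveI : IsClosedImmersion i := .of_isPreimmersion i (by rw [Scheme.range_fromSpecResidueField]; exact hv)
  haveI : IsIso (hV.fromSpec.residueFieldMap v) := inferInstance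
  have e : Spec.map (hV.fromSpec.residueFieldMap v) ≫ U.fromSpecResidueField (hV.fromSpec v) = i ≫ hV.fromSpec :=
    Scheme.Hom.SpecMap_residueFieldMap_fromSpecResidueField _ _
  rw [show U.fromSpecResidueField (hV.fromSpec v) =
    inv (Spec.map (hV.fromSpec.residueFieldMap v)) ≫ i ≫ hV.fromSpec by rw [← e, IsIso.inv_hom_id_assoc]]
  infer_instance

/-- an open set containing all points of finite type is everything -/
theorem eq_univ_of_forall_ft {U : Scheme.{u}} {Ω : Set U} (hΩ : IsOpen Ω)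
    (h : ∀ u, LocallyOfFiniteType (U.fromSpecResidueField u) → u ∈ Ω) : Ω = Set.univ := by
  refine Set.eq_univ_of_forall fun t => by_contra fun ht => ?_
  obtain ⟨V, hV, htV, -⟩ := exists_isAffineOpen_mem_and_subset (X := U) (x := t) (U := ⊤) trivial
  have hne : (hV.fromSpec ⁻¹' Ωᶜ).Nonempty := ⟨hV.primeIdealOf ⟨t, htV⟩, by
    rw [Set.mem_preimage, IsAffineOpen.fromSpec_primeIdealOf]; exact ht⟩
  have hcl : IsClosed (hV.fromSpec ⁻¹' Ωᶜ) := hΩ.isClosed_compl.preimage hV.fromSpec.continuous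
  obtain ⟨v, hv, hvc⟩ := hcl.exists_closed_singleton hne
  exact hv (h _ (lft_fromSpecResidueField hV v hvc))

/-- a quasi-DM stack has flat locally quasi-finite charts through every point of an atlas -/
theorem exists_lqf_chart_through (h𝒳 : IsAlgStack Scheme.fppfPrecoverage 𝒳) (hq : AlgSt.IsQuasiDMOver 𝒳)
    {U : Over S} (c : FibCat.overCat U ⥤ᵇ 𝒳) (hc : AlgSt.RepByAlgSpWith (AlgSp.LocP @Smooth) c)
    (hcs : AlgSt.RepByAlgSpWith AlgSp.IsSurjectiveMor c) (t : ↥U.left) :
    ∃ (W : Over S) (m : W ⟶ U), LocallyOfFinitePresentation m.left ∧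
      AlgSt.RepByAlgSpWith (AlgSp.LocP FlatLqf) (BasedFunctor.comp (AlgSt.overMap m) c) ∧
      Points.ofChart c t ∈ Set.range (Points.ofChart (BasedFunctor.comp (AlgSt.overMap m) c)) := by
  have gX := h𝒳.isStack.1
  let Ω : Set U.left := {t | ∃ (W : Over S) (m : W ⟶ U), LocallyOfFinitePresentation m.left ∧
    AlgSt.RepByAlgSpWith (AlgSp.LocP FlatLqf) (BasedFunctor.comp (AlgSt.overMap m) c) ∧
    Points.ofChart c t ∈ Set.range (Points.ofChart (BasedFunctor.comp (AlgSt.overMap m) c))}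
  have hΩ : IsOpen Ω := isOpen_iff_forall_mem_open.2 fun t ⟨W, m, hm, hP, ht⟩ =>
    ⟨Points.ofChart c ⁻¹' Set.range (Points.ofChart (BasedFunctor.comp (AlgSt.overMap m) c)),
      fun t' ht' => ⟨W, m, hm, hP, ht'⟩,
      (isOpenMap_ofChart gX (with_locP_mono inf_le_left hP)
        (with_comp goodP_locP (overCat_isFibGrpd W) (overCat_isFibGrpd U) (with_locP_overMap m hm)
          (with_locP_mono smooth_le_lfp hc))).isOpen_range.preimage (continuous_ofChart h𝒳 c), ht⟩
  refine (eq_univ_of_forall_ft hΩ fun u hu => ?_).ge (Set.mem_univ t)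
  obtain ⟨W, m, hm, hP, z, rfl⟩ := exists_lqf_slice h𝒳 hq c hc hcs u hu
  exact ⟨W, m, hm, hP, z, by rw [ofChart_overMap]⟩

/-- residual gerbes on quasi-DM stacks -/
theorem resGerbeExists_of_quasiDM (h𝒳 : IsAlgStack Scheme.fppfPrecoverage 𝒳) (hq : AlgSt.IsQuasiDMOver 𝒳)
    (x : Points 𝒳) : Gerb.ResGerbeExists Scheme.fppfPrecoverage 𝒳 x := by
  obtain ⟨U, c, hc, hcs⟩ := h𝒳.atlas
  obtain ⟨t, rfl⟩ := surjective_ofChart h𝒳.isStack.1 hcs x
  obtain ⟨W, m, -, hP, z, hz⟩ := exists_lqf_chart_through h𝒳 hq c hc hcs t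
  rw [← hz]
  exact AlgGerbe16.resGerbeExists_of_lqf h𝒳 _
    (with_locP_mono (inf_le_right.trans inf_le_left) hP) (with_locP_mono (inf_le_right.trans inf_le_right) hP) z

end Groth.Agent.QdmSlice16
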