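import Groth.Agent.Lib.QdmSlice16.Pair
import Groth.Agent.Lib.QdmSlice16.Locus
import Groth.Agent.Lib.StAlg16.PLocusMain
import Groth.Agent.Lib.StAlg16.LargestOpen
import Groth.Agent.Lib.StAlg16.LocQApps
import Groth.Agent.Lib.StAlg16.UnivTop
import Groth.Agent.Lib.AlgGerbe16.Kernel
import Groth.Agent.Lib.AlgGerbe16.ResLqf

/-!
# Flat, locally quasi-finite charts of quasi-DM algebraic stacks
-/

universe u

open CategoryTheory CategoryTheory.Functor CategoryTheory.Limits AlgebraicGeometry Opposite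

set_option linter.style.haveILetI false
set_option linter.unusedSectionVars false
set_option backward.isDefEq.respectTransparency false
set_option backward.isDefEq.respectTransparency.types false

namespace Groth.Agent.QdmSlice16

open Groth.Agent.FC16 hiding overMap
open Groth.Agent.StAlg Groth.Agent.StAlg16 AlgSt
open Groth.Agent.AlgGerbe16 (prodE prodE_isEquivOver)

variable {S : Scheme.{u}} {𝒳 : AlgSt.Cat S}

theorem isLocalOnBase_fppf_locP_flatLqf :
    AlgSp.IsLocalOnBase (AlgSp.IsFppfCover (S := S)) (AlgSp.LocP FlatLqf) := by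
  have e : (AlgSp.LocP FlatLqf : MorphismProperty (AlgSp.Sp S)) =
      fun _ _ f => AlgSp.LocP @Flat f ∧ AlgSp.LocP AlgSpRel14.LqfLft f := by
    funext X Y f
    exact propext ⟨fun h => ⟨AlgSpace.locP_mono inf_le_left h, AlgSpace.locP_mono inf_le_right h⟩,
      fun h => AlgSpace.locP_inf h.1 h.2⟩
  rw [e]
  exact AlgSpDescent.isLocalOnBase_and isLocalOnBase_fppf_locP_flat StAlg.isLocalOnBase_fppf_locP_lqf

/-- an étale chart of the pairs of points of a chart with isomorphic images -/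
theorem exists_pair_chart (h𝒳 : IsAlgStack Scheme.fppfPrecoverage 𝒳) (hq : AlgSt.IsQuasiDMOver 𝒳)
    {U : Over S} (c : FibCat.overCat U ⥤ᵇ 𝒳) (hc : AlgSt.RepByAlgSpWith (AlgSp.LocP @Smooth) c) :
    ∃ (A : Over S) (d₀ : FibCat.overCat A ⥤ᵇ FibCat.fp c c) (s t : A ⟶ U) (w : s.left ≫ U.hom = t.left ≫ U.hom),
      AlgSt.RepByAlgSpWith (AlgSp.LocP @Etale) d₀ ∧ AlgSt.RepByAlgSpWith AlgSp.IsSurjectiveMor d₀ ∧
      Nonempty (BasedFunctor.comp d₀ (FibCat.fpFst c c) ≅ AlgSt.overMap s) ∧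
      Nonempty (BasedFunctor.comp d₀ (FibCat.fpSnd c c) ≅ AlgSt.overMap t) ∧
      Smooth s.left ∧ LocallyQuasiFinite (pullback.lift s.left t.left w) := by
  have gX := h𝒳.isStack.1
  let Δ := FibCat.diag (FibCat.toSelf 𝒳)
  let ea : BasedFunctor.comp c (FibCat.toSelf 𝒳) ≅ FibCat.toSelf (FibCat.overCat U) :=
    eqToIso (selfOver_functor_eq _ _)
  let P₀ := pair ea ea
  let y := BasedFunctor.comp (prodE U) P₀
  let a := FibCat.fpFst y Δ
  haveI := idFun_full (𝒳 := FibCat.fp (FibCat.toSelf 𝒳) (FibCat.toSelf 𝒳))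
  haveI := idFun_faithful (𝒳 := FibCat.fp (FibCat.toSelf 𝒳) (FibCat.toSelf 𝒳))
  let E' := BasedFunctor.comp
    (fpMap (F := y) (G := Δ) (F' := P₀) (G' := Δ) (a := prodE U) (b := BasedFunctor.id _)
      (s := BasedFunctor.id (FibCat.fp (FibCat.toSelf 𝒳) (FibCat.toSelf 𝒳))) (Iso.refl _) (Iso.refl _))
    (diagFun ea ea)
  have hE' : FibCat.IsEquivOver E' :=
    isEquivOver_comp (fpMap_isEquivOver _ _ (prodE_isEquivOver U) isEquivOver_id) (diagFun_isEquivOver _ _)
  obtain ⟨G, hG, -, ⟨β⟩⟩ := exists_inverse hE'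
  obtain ⟨A, d₀, hd, hds⟩ := exists_fp_chart gX c (repByAlgSp1_of_with hc)
  obtain ⟨k, ⟨jk⟩⟩ := exists_overMap_iso (BasedFunctor.comp (BasedFunctor.comp d₀ G) a)
  let s := k ≫ prod.fst
  let t := k ≫ prod.snd
  let i₁ : BasedFunctor.comp d₀ (FibCat.fpFst c c) ≅ AlgSt.overMap s :=
    (wlIso d₀ (wrIso β (FibCat.fpFst c c))).symm ≪≫ wrIso jk (AlgSt.overMap prod.fst) ≪≫ overMapComp k prod.fst
  let i₂ : BasedFunctor.comp d₀ (FibCat.fpSnd c c) ≅ AlgSt.overMap t :=
    (wlIso d₀ (wrIso β (FibCat.fpSnd c c))).symm ≪≫ wrIso jk (AlgSt.overMap prod.snd) ≪≫ overMapComp k prod.snd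
  have hfp : FibCat.IsFibGrpd (FibCat.fp c c).p := fp_isFibGrpd (overCat_isFibGrpd U) (overCat_isFibGrpd U) gX c c
  have hP := StAlg.isAlgStack_prod h𝒳 h𝒳
  have hfpy : FibCat.IsFibGrpd (FibCat.fp y Δ).p :=
    fp_isFibGrpd (overCat_isFibGrpd (U ⨯ U)) gX hP.isStack.1 y Δ
  have hk : LocallyQuasiFinite k.left := (of_with_locP_overMap (P := AlgSpRel14.LqfLft) k (with_of_iso jk
    (with_comp goodP_locP (overCat_isFibGrpd A) hfpy (with_equiv_comp hG (hd AlgSpRel14.LqfLft))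
      (with_fpFst y hq)))).1
  have hw : s.left ≫ U.hom = t.left ≫ U.hom := (Over.w s).trans (Over.w t).symm
  refine ⟨A, d₀, s, t, hw, hd @Etale, hds, ⟨i₁⟩, ⟨i₂⟩, of_with_locP_overMap s (with_of_iso i₁
    (with_comp goodP_locP (overCat_isFibGrpd A) hfp (hd @Smooth) (with_fpFst c hc))), ?_⟩
  haveI := hk
  rw [show pullback.lift s.left t.left hw = k.left ≫ (Over.prodLeftIsoPullback U U).hom from
    pullback.hom_ext (by rw [pullback.lift_fst, Category.assoc, Over.prodLeftIsoPullback_hom_fst]; rfl)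
      (by rw [pullback.lift_snd, Category.assoc, Over.prodLeftIsoPullback_hom_snd]; rfl)]
  infer_instance

/-- a point of an étale chart at which the map is flat and quasi-finite lies in the locus -/
theorem mem_locus {𝒴 : AlgSt.Cat S} {V W : Over S} {y₀ : FibCat.overCat V ⥤ᵇ 𝒳} {f : 𝒴 ⥤ᵇ 𝒳}
    {c₀ : FibCat.overCat W ⥤ᵇ FibCat.fp y₀ f} (hc : AlgSt.RepByAlgSpWith (AlgSp.LocP @Etale) c₀) {h : W ⟶ V}
    (j : BasedFunctor.comp c₀ (FibCat.fpFst y₀ f) ≅ AlgSt.overMap h) (z : ↥W.left)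
    (hz : AlgSpRel14.Near FlatLqf W.left V.left h.left z)
    {T₀ : Set (Points (FibCat.fp (BasedFunctor.comp (AlgSt.toOverCat V) y₀) f))}
    (hT₀ : IsPLocus (AlgSp.LocP FlatLqf) f (Z := (⟨_, AlgSp.IsAlgSpace.yon_obj V⟩ : AlgSp.Space S))
      (BasedFunctor.comp (AlgSt.toOverCat V) y₀) T₀) :
    Points.ofChart (BasedFunctor.comp c₀ (FibCat.fpSnd y₀ f)) z ∈
      Points.map (FibCat.fpSnd (BasedFunctor.comp (AlgSt.toOverCat V) y₀) f) '' T₀ := by
  obtain ⟨A, a, e, W₁, w₁, he, ⟨i⟩, hw₁, hT⟩ := hT₀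
  haveI := idFun_full (𝒳 := 𝒳)
  haveI := idFun_faithful (𝒳 := 𝒳)
  let M := fpMap (F := BasedFunctor.comp (AlgSt.toOverCat V) y₀) (G := f) (F' := y₀) (G' := f)
    (a := AlgSt.toOverCat V) (b := BasedFunctor.id _) (s := BasedFunctor.id 𝒳) (Iso.refl _) (Iso.refl _)
  obtain ⟨E, hE, -, ⟨β⟩⟩ := exists_inverse (isEquivOver_comp he
    (show FibCat.IsEquivOver M from fpMap_isEquivOver _ _ (toOverCat_isEquivOver V) isEquivOver_id))
  let x : FibCat.overCat W ⥤ᵇ AlgSt.ofSp A.obj := BasedFunctor.comp c₀ E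
  let Φ : AlgSt.ofSch W ⥤ᵇ AlgSt.ofSp A.obj := BasedFunctor.comp (AlgSt.toOverCat W) x
  let r : (AlgSp.yon S).obj W ⟶ A.obj := ObjectProperty.homMk (mapOf Φ)
  have hr : r ≫ a.hom = (AlgSp.yon S).map h := by
    let B := BasedFunctor.comp (BasedFunctor.comp (BasedFunctor.comp Φ e)
      (FibCat.fpFst (BasedFunctor.comp (AlgSt.toOverCat V) y₀) f)) (AlgSt.toOverCat V)
    let i₁ : B ≅ BasedFunctor.comp (BasedFunctor.comp (AlgSt.ofSpMap ((AlgSp.yon S).map h)) (AlgSt.toOverCat V))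
        (BasedFunctor.id _) :=
      wlIso (BasedFunctor.comp (AlgSt.toOverCat W) c₀) (wrIso β (FibCat.fpFst y₀ f)) ≪≫
        wlIso (AlgSt.toOverCat W) j ≪≫ (overMapIso h).symm
    have e₁ := mapOf_congr (P := ((AlgSp.yon S).obj W).obj) (Q := ((AlgSp.yon S).obj V).obj)
      (wrIso i₁ (AlgSt.ofOverCat V))
    have i₂ : BasedFunctor.comp B (AlgSt.ofOverCat V) ≅ Stk.ofPshMap (mapOf Φ ≫ a.hom.hom) :=
      wlIso (BasedFunctor.comp (BasedFunctor.comp Φ e) (FibCat.fpFst _ f)) (eqToIso (toOver_ofOver V)) ≪≫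
        wlIso Φ i ≪≫ isoMapOf _ ≪≫ eqToIso (congrArg Stk.ofPshMap (by rw [mapOf_comp, mapOf_ofPshMap]))
    have i₃ : BasedFunctor.comp (BasedFunctor.comp (BasedFunctor.comp (AlgSt.ofSpMap ((AlgSp.yon S).map h))
        (AlgSt.toOverCat V)) (BasedFunctor.id _)) (AlgSt.ofOverCat V) ≅
        Stk.ofPshMap ((AlgSp.yon S).map h).hom :=
      wlIso (AlgSt.ofSpMap ((AlgSp.yon S).map h)) (eqToIso (toOver_ofOver V))
    apply ObjectProperty.hom_ext
    have e₂ := ((mapOf_congr i₂).symm.trans e₁).trans (mapOf_congr i₃)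
    rw [mapOf_ofPshMap, mapOf_ofPshMap] at e₂
    exact e₂
  have hre : AlgSp.RepWith @Etale r := by
    refine AlgSpace.repWith_of_locP A.property (Functor.relativelyRepresentable.of_diag A.property.diag _) ?_
    exact of_with_spMap goodP_locP (AlgSp.IsAlgSpace.yon_obj W) A.property (with_of_iso (isoMapOf Φ)
      (show AlgSt.RepByAlgSpWith (AlgSp.LocP @Etale) (BasedFunctor.comp (BasedFunctor.comp (AlgSt.toOverCat W) c₀) E)
        from with_equiv_comp hE (with_comp_equiv (toOverCat_isEquivOver W) hc)))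
  let q₀ := Points.ofChart x z
  have hq₀ : spPts q₀ = AlgSp.Points.ofPt r z := congrFun (spPts_ofChart x) z
  refine ⟨Points.map e q₀, (hT q₀).2 ?_, ?_⟩
  · rw [hq₀, mem_range_maxOpen hw₁]
    refine (AlgSpRel14.hasAtMor_near_iff FlatLqf hre (b := (AlgSp.yon S).map (𝟙 V))
      ((AlgSp.repWith_yon_map_iff _ _).2 (inferInstanceAs (Etale (𝟙 V.left)))) ?_ z).2 hz
    rw [hr, CategoryTheory.Functor.map_id]
    exact (Category.comp_id _).symm
  · let γ : BasedFunctor.comp (BasedFunctor.comp x e)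
        (FibCat.fpSnd (BasedFunctor.comp (AlgSt.toOverCat V) y₀) f) ≅ BasedFunctor.comp c₀ (FibCat.fpSnd y₀ f) :=
      wlIso c₀ (wrIso β (FibCat.fpSnd y₀ f))
    show Points.map (FibCat.fpSnd _ f) (Points.map e (Points.map x (Points.mk (chartPt W z)))) =
      Points.map (BasedFunctor.comp c₀ (FibCat.fpSnd y₀ f)) (Points.mk (chartPt W z))
    rw [← StAlg16.map_comp_apply, ← StAlg16.map_comp_apply, ← map_eq_map_of_iso γ]
    rfl

/-- at every finite type point of an atlas there is a flat, locally quasi-finite chart -/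
theorem exists_lqf_slice (h𝒳 : IsAlgStack Scheme.fppfPrecoverage 𝒳) (hq : AlgSt.IsQuasiDMOver 𝒳)
    {U : Over S} (c : FibCat.overCat U ⥤ᵇ 𝒳) (hc : AlgSt.RepByAlgSpWith (AlgSp.LocP @Smooth) c)
    (hcs : AlgSt.RepByAlgSpWith AlgSp.IsSurjectiveMor c) (u : ↥U.left)
    (hu : LocallyOfFiniteType (U.left.fromSpecResidueField u)) :
    ∃ (W : Over S) (m : W ⟶ U), LocallyOfFinitePresentation m.left ∧
      AlgSt.RepByAlgSpWith (AlgSp.LocP FlatLqf) (BasedFunctor.comp (AlgSt.overMap m) c) ∧ u ∈ Set.range m.left := by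
  have gX := h𝒳.isStack.1
  have gU := overCat_isFibGrpd U
  obtain ⟨A, d₀, s, t, hw, hd, hds, ⟨js⟩, ⟨jt⟩, hs, hl⟩ := exists_pair_chart h𝒳 hq c hc
  have hfp : FibCat.IsFibGrpd (FibCat.fp c c).p := fp_isFibGrpd gU gU gX c c
  obtain ⟨ω, hω₁, hω₂⟩ := exists_fp_point gU gX gU c c (Points.mk (chartPt U u)) (Points.mk (chartPt U u)) rfl
  obtain ⟨r, rfl⟩ := surjective_ofChart hfp hds ω
  have hsr : s.left r = u := by
    rw [ofChart_eq, ← StAlg16.map_comp_apply, map_eq_map_of_iso js, map_overMap_chartPt] at hω₁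
    have := congrArg ptOf hω₁
    rwa [ptOf_chartPt, ptOf_chartPt] at this
  have htr : t.left r = u := by
    rw [ofChart_eq, ← StAlg16.map_comp_apply, map_eq_map_of_iso jt, map_overMap_chartPt] at hω₂
    have := congrArg ptOf hω₂
    rwa [ptOf_chartPt, ptOf_chartPt] at this
  haveI := hs
  haveI := hl
  obtain ⟨U₁, -, g, p, hg, hgp, hgu, -, hgood⟩ := exists_slice_pair s.left t.left U.hom hw u hu r hsr htr
  haveI := hg
  haveI := hgp
  let U' : Over S := Over.mk (g ≫ U.hom)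
  let gO : U' ⟶ U := Over.homMk g rfl
  let f := BasedFunctor.comp (AlgSt.overMap gO) c
  let P := pullback t gO
  let h : P ⟶ U := pullback.fst t gO ≫ s
  -- the chart of the fibre product
  haveI := idFun_full (𝒳 := FibCat.overCat U)
  haveI := idFun_faithful (𝒳 := FibCat.overCat U)
  let σ := FibCat.fpSnd c c
  let i' := AlgSt.overMap gO
  obtain ⟨LG, hLG, -, ⟨β⟩⟩ := exists_inverse (pasteL_isEquivOver d₀ σ i')
  let M : FibCat.overCat P ⥤ᵇ FibCat.fp (BasedFunctor.comp d₀ σ) i' :=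
    BasedFunctor.comp (overPullback (pullback.condition (f := t) (g := gO)))
      (fpMap (F := AlgSt.overMap t) (G := i') (F' := BasedFunctor.comp d₀ σ) (G' := i')
        (a := BasedFunctor.id _) (b := BasedFunctor.id _) (s := BasedFunctor.id _) jt (Iso.refl _))
  have hM : FibCat.IsEquivOver M := isEquivOver_comp (overPullback_isEquivOver (IsPullback.of_hasPullback t gO))
    (fpMap_isEquivOver _ _ isEquivOver_id isEquivOver_id)
  let T := FibCat.fpSnd d₀ (FibCat.fpFst σ i')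
  let c₀ : FibCat.overCat P ⥤ᵇ FibCat.fp c f :=
    BasedFunctor.comp (BasedFunctor.comp (BasedFunctor.comp M LG) T) (pasteR c c i')
  have hc₀ : AlgSt.RepByAlgSpWith (AlgSp.LocP @Etale) c₀ := with_equiv_comp (pasteR_isEquivOver c c i')
    (with_comp_equiv (isEquivOver_comp hM hLG) (with_fpSnd _ hd))
  let j : BasedFunctor.comp c₀ (FibCat.fpFst c f) ≅ AlgSt.overMap h :=
    wlIso (BasedFunctor.comp M LG) (wrIso (FibCat.fpIso d₀ (FibCat.fpFst σ i')).symm (FibCat.fpFst c c)) ≪≫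
      wlIso (BasedFunctor.comp (BasedFunctor.comp M LG) (FibCat.fpFst d₀ _)) js ≪≫
      wrIso (wlIso M (wrIso β (FibCat.fpFst (BasedFunctor.comp d₀ σ) i'))) (AlgSt.overMap s) ≪≫
      overMapComp (pullback.fst t gO) s
  let j' : BasedFunctor.comp c₀ (FibCat.fpSnd c f) ≅ AlgSt.overMap (pullback.snd t gO) :=
    wlIso M (wrIso β (FibCat.fpSnd (BasedFunctor.comp d₀ σ) i'))
  -- the point
  have sq : IsPullback (pullback.fst t gO).left (pullback.snd t gO).left t.left g :=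
    (IsPullback.of_hasPullback t gO).map (Over.forget S)
  let z : ↥P.left := sq.isoPullback.inv p
  have hzp : sq.isoPullback.hom z = p := by
    rw [← Scheme.Hom.comp_apply, Iso.inv_hom_id]
    rfl
  have hhl : h.left = sq.isoPullback.hom ≫ pullback.fst t.left g ≫ s.left := by
    rw [← Category.assoc, sq.isoPullback_hom_fst]
    rfl
  have hfl : AlgSt.RepByAlgSpWith (AlgSp.LocP @LocallyOfFinitePresentation) f :=
    with_comp goodP_locP (overCat_isFibGrpd U') gU (with_locP_overMap gO hgp) (with_locP_mono smooth_le_lfp hc)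
  haveI : LocallyOfFinitePresentation h.left := by
    rw [hhl]
    infer_instance
  have hnear : AlgSpRel14.Near FlatLqf P.left U.left h.left z := by
    rw [near_flatLqf_iff, show Slice.GoodAt h.left z ↔
      Slice.GoodAt (sq.isoPullback.hom ≫ pullback.fst t.left g ≫ s.left) z by rw [hhl], Slice.goodAt_comp_left_iff,
      hzp]
    exact hgood
  -- the locus
  let V : AlgSp.Space S := ⟨_, AlgSp.IsAlgSpace.yon_obj U⟩
  let y : AlgSt.ofSp V.obj ⥤ᵇ 𝒳 := BasedFunctor.comp (AlgSt.toOverCat U) c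
  have hy : AlgSt.RepByAlgSpWith (AlgSp.LocP @Smooth) y := with_comp_equiv (toOverCat_isEquivOver U) hc
  have hys : AlgSt.RepByAlgSpWith AlgSp.IsSurjectiveMor y := with_comp_equiv (toOverCat_isEquivOver U) hcs
  have gU' := overCat_isFibGrpd U'
  obtain ⟨T₀, hT₀⟩ := exists_isPLocus GerbAbs.Chart.pbP_locP' isLocalOnBase_fppf_locP_lfp gU' gX hfl
    hasLargest_flatLqf y
  let O₀ := Points.map (FibCat.fpSnd y f) '' T₀
  have hO₀ : IsOpen O₀ := isOpen_image_fpSnd gU' hy hT₀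
  have hpre : Points.map (FibCat.fpSnd y f) ⁻¹' O₀ = T₀ := by
    refine Set.Subset.antisymm (fun q ⟨q', hq', e⟩ => ?_) (Set.subset_preimage_image _ _)
    exact hT₀.saturated GerbAbs.Chart.pbP_locP' GerbAbs.Chart.pbP_locP' GerbAbs.Chart.pbP_locP'
      isLocalOnBase_fppf_locP_lfp isLocalOnBase_fppf_locP_flat gU' gX hfl largestBC_flatLqf
      (with_locP_mono smooth_le_flat hy) q' q e hq'
  obtain ⟨h1, -⟩ := qsub_spec (P := AlgSp.LocP FlatLqf) GerbAbs.Chart.pbP_locP' isLocalOnBase_fppf_locP_flatLqf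
    (isAlgStack_overCat U') gX (repByAlgSp1_of_with hfl) (with_locP_mono smooth_le_flat hy)
    (with_locP_mono smooth_le_lfp hy) hys hO₀ (by rw [hpre]; exact hT₀)
  obtain ⟨O, E, hO, hE, hE'⟩ :=
    exists_fp_subIncl hO₀ (isAlgStack_overCat U') (BasedFunctor.id (FibCat.overCat U'))
  let incl := AlgSt.subIncl (FibCat.overCat U') (Qsub O₀)
  let w := BasedFunctor.comp (AlgSt.overMap (openIncl O)) f
  let iw : BasedFunctor.comp (BasedFunctor.comp E (FibCat.fpSnd (BasedFunctor.id _) incl)) (BasedFunctor.comp incl f) ≅ w :=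
    wrIso ((wlIso E (FibCat.fpIso (BasedFunctor.id _) incl)).symm) f ≪≫ wrIso (eqToIso hE') f
  refine ⟨openPart O, openIncl O ≫ gO, ?_, with_of_iso (wrIso (overMapComp (openIncl O) gO) c)
      (show AlgSt.RepByAlgSpWith (AlgSp.LocP FlatLqf) w from with_of_iso iw (with_comp goodP_locP (overCat_isFibGrpd _)
        (isAlgStack_fullSub_qsub hO₀ (isAlgStack_overCat U')).isStack.1
        (with_comp_equiv hE (with_fpSnd _ (with_id_overCat _))) h1)), ?_⟩
  · show LocallyOfFinitePresentation (O.ι ≫ g)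
    infer_instance
  have hmem : (pullback.snd t gO).left z ∈ O := by
    show (pullback.snd t gO).left z ∈ (O : Set U'.left)
    rw [hO, Set.mem_preimage, ofChart_eq, StAlg16.map_id_apply]
    have h2 := mem_locus hc₀ j z hnear hT₀
    rw [ofChart_congr j', ofChart_eq, map_overMap_chartPt] at h2
    exact h2
  refine ⟨⟨_, hmem⟩, ?_⟩
  show g ((pullback.snd t gO).left z) = u
  refine (congrArg g ?_).trans hgu
  rw [← hzp, ← Scheme.Hom.comp_apply sq.isoPullback.hom, sq.isoPullback_hom_snd]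
  rfl

end Groth.Agent.QdmSlice16
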