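import Groth.Agent.Lib.QdmSlice16.Cover

/-!
# A single flat locally quasi-finite cover of a quasi-DM stack
-/

universe u

open CategoryTheory CategoryTheory.Functor CategoryTheory.Limits AlgebraicGeometry Opposite

set_option linter.style.haveILetI false
set_option linter.unusedSectionVars false
set_option backward.isDefEq.respectTransparency false
set_option backward.isDefEq.respectTransparency.types false

namespace Groth.Agent.QdmSlice16

open Groth.Agent.FC16 hiding overMap
open Groth.Agent.StAlg Groth.Agent.StAlg16 AlgSt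

variable {S : Scheme.{u}} {𝒳 : AlgSt.Cat S}

theorem flatLqf_of_isOpenImmersion {X Y : Scheme.{u}} (f : X ⟶ Y) [IsOpenImmersion f] : FlatLqf f :=
  ⟨inferInstance, inferInstance, inferInstance⟩

/-- flat locally quasi-finite is local on a scheme source -/
theorem with_flatLqf_of_pieces (h𝒳 : IsAlgStack Scheme.fppfPrecoverage 𝒳) {W : Over S}
    (f : FibCat.overCat W ⥤ᵇ 𝒳) (hf : AlgSt.RepByAlgSpWith (AlgSp.LocP @LocallyOfFinitePresentation) f)
    (h : ∀ t : ↥W.left, ∃ (V : Over S) (i : V ⟶ W), IsOpenImmersion i.left ∧ t ∈ Set.range i.left ∧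
      AlgSt.RepByAlgSpWith (AlgSp.LocP FlatLqf) (BasedFunctor.comp (AlgSt.overMap i) f)) :
    AlgSt.RepByAlgSpWith (AlgSp.LocP FlatLqf) f := by
  have gW := overCat_isFibGrpd W
  have hW := isAlgStack_overCat W
  obtain ⟨T, V₀, y, hT, -, -, -, hTP, hTmax⟩ := exists_largest_open_with (P := AlgSp.LocP FlatLqf)
    GerbAbs.Chart.pbP_locP' GerbAbs.Chart.pbP_locP' GerbAbs.Chart.pbP_locP' isLocalOnBase_fppf_locP_flatLqf
    isLocalOnBase_fppf_locP_lfp isLocalOnBase_fppf_locP_flat
    (fun _ _ _ hg => AlgSpace.locP_mono StAlg.smooth_le_flat hg) hasLargest_flatLqf largestBC_flatLqf hW h𝒳 hf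
  have hall : ∀ t : ↥W.left, Points.ofChart (BasedFunctor.id (FibCat.overCat W)) t ∈ T := by
    intro t
    obtain ⟨V, i, hi, ⟨v, rfl⟩, hP⟩ := h t
    haveI := hi
    let T₁ := Set.range (Points.ofChart (AlgSt.overMap i))
    have hT₁ : IsOpen T₁ := (isOpenMap_ofChart gW (with_locP_overMap i (inferInstanceAs (Flat i.left)))
      (with_locP_overMap i (inferInstanceAs (LocallyOfFinitePresentation i.left)))).isOpen_range
    obtain ⟨O, E, hO, hE, hE'⟩ := exists_fp_subIncl hT₁ hW (BasedFunctor.id (FibCat.overCat W))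
    let incl := AlgSt.subIncl (FibCat.overCat W) (Qsub T₁)
    have hr : Set.range O.ι ⊆ Set.range i.left := by
      rw [Scheme.Opens.range_ι, hO]
      intro w hw
      obtain ⟨v', hv'⟩ := hw
      rw [ofChart_eq, ofChart_eq, StAlg16.map_id_apply, map_overMap_chartPt] at hv'
      exact ⟨v', by rw [← ptOf_chartPt (U := W) (i.left v'), hv', ptOf_chartPt]⟩
    let e : openPart O ⟶ V := Over.homMk (IsOpenImmersion.lift i.left O.ι hr) (by
      show _ ≫ V.hom = O.ι ≫ W.hom
      rw [← Over.w i, IsOpenImmersion.lift_fac_assoc])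
    haveI : IsOpenImmersion e.left := by
      haveI : IsOpenImmersion (e.left ≫ i.left) := by
        rw [show e.left ≫ i.left = O.ι from IsOpenImmersion.lift_fac _ _ _]; infer_instance
      exact IsOpenImmersion.of_comp e.left i.left
    have he : e ≫ i = openIncl O := Over.OverMorphism.ext (IsOpenImmersion.lift_fac _ _ _)
    have h1 : AlgSt.RepByAlgSpWith (AlgSp.LocP FlatLqf) (BasedFunctor.comp (AlgSt.overMap (openIncl O)) f) :=
      with_of_iso (wrIso (overMapComp e i ≪≫ eqToIso (congrArg AlgSt.overMap he)) f)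
        (with_comp goodP_locP (overCat_isFibGrpd _) (overCat_isFibGrpd V)
          (with_locP_overMap e (flatLqf_of_isOpenImmersion e.left)) hP)
    have hL : FibCat.IsEquivOver (BasedFunctor.comp E (FibCat.fpSnd (BasedFunctor.id _) incl)) :=
      isEquivOver_comp hE (fpSnd_id_isEquivOver incl)
    let iw : BasedFunctor.comp (BasedFunctor.comp E (FibCat.fpSnd (BasedFunctor.id _) incl)) (BasedFunctor.comp incl f) ≅
        BasedFunctor.comp (AlgSt.overMap (openIncl O)) f :=
      wrIso ((wlIso E (FibCat.fpIso (BasedFunctor.id _) incl)).symm) f ≪≫ wrIso (eqToIso hE') f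
    have h2 : AlgSt.RepByAlgSpWith (AlgSp.LocP FlatLqf) (BasedFunctor.comp incl f) :=
      (with_congr (f := BasedFunctor.comp incl f) (f' := BasedFunctor.comp (AlgSt.overMap (openIncl O)) f)
        (a := BasedFunctor.comp E (FibCat.fpSnd (BasedFunctor.id _) incl)) (b := BasedFunctor.id _) hL isEquivOver_id
        iw.symm).2 h1
    have hmem : Points.ofChart (BasedFunctor.id (FibCat.overCat W)) (i.left v) ∈ T₁ :=
      ⟨v, by rw [ofChart_eq, ofChart_eq, StAlg16.map_id_apply, map_overMap_chartPt]⟩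
    exact hTmax _ (isOpenSubstack_qsub hT₁ hW) h2 (chartPt W (i.left v)).obj
      (qsub_pt (by rwa [ofChart_eq, StAlg16.map_id_apply] at hmem)) _ (𝟙 _) |> fun h => by
        rwa [ofChart_eq, StAlg16.map_id_apply]
  obtain ⟨O, E, hO, hE, hE'⟩ := exists_fp_subIncl hT hW (BasedFunctor.id (FibCat.overCat W))
  let incl := AlgSt.subIncl (FibCat.overCat W) (Qsub T)
  have hsurj : Surjective O.ι := ⟨fun t => ⟨⟨t, by
    show t ∈ (O : Set W.left)
    rw [hO]; exact hall t⟩, rfl⟩⟩
  haveI := hsurj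
  haveI : IsIso O.ι := (isIso_iff_isOpenImmersion_and_epi_base _).2 ⟨inferInstance,
    (TopCat.epi_iff_surjective _).2 hsurj.surj⟩
  let e : W ⟶ openPart O := Over.homMk (inv O.ι) (by
    show inv O.ι ≫ O.ι ≫ W.hom = W.hom
    rw [IsIso.inv_hom_id_assoc])
  have he : e ≫ openIncl O = 𝟙 W := Over.OverMorphism.ext (IsIso.inv_hom_id O.ι)
  have h1 : AlgSt.RepByAlgSpWith (AlgSp.LocP FlatLqf) (BasedFunctor.comp (AlgSt.overMap (openIncl O)) f) :=
    with_of_iso (wrIso ((wlIso E (FibCat.fpIso (BasedFunctor.id _) incl)).symm) f ≪≫ wrIso (eqToIso hE') f)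
      (with_comp goodP_locP (overCat_isFibGrpd _) (isAlgStack_fullSub_qsub hT hW).isStack.1
        (with_comp_equiv hE (with_fpSnd _ (with_id_overCat _))) hTP)
  have h2 : AlgSt.RepByAlgSpWith (AlgSp.LocP FlatLqf) (BasedFunctor.comp (AlgSt.overMap (e ≫ openIncl O)) f) :=
    with_of_iso (wrIso (overMapComp e (openIncl O)) f)
      (show AlgSt.RepByAlgSpWith (AlgSp.LocP FlatLqf)
          (BasedFunctor.comp (AlgSt.overMap e) (BasedFunctor.comp (AlgSt.overMap (openIncl O)) f)) from
        with_comp goodP_locP (overCat_isFibGrpd W)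
          (overCat_isFibGrpd _) (with_locP_overMap e (flatLqf_of_isOpenImmersion (inv O.ι))) h1)
  rw [he] at h2
  exact with_of_iso (wrIso (BasedNatIso.mkNatIso (NatIso.ofComponents (fun b => Over.isoMk (Iso.refl _) (by
      show 𝟙 _ ≫ b.hom = b.hom ≫ 𝟙 W
      simp)))
      (fun b => IsHomLift.of_fac' _ _ _ rfl rfl (by simp; rfl)) :
    AlgSt.overMap (𝟙 W) ≅ BasedFunctor.id (FibCat.overCat W)) f) h2

/-- a quasi-DM stack has a flat, locally finitely presented, locally quasi-finite cover by a scheme -/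
theorem exists_lqf_cover (h𝒳 : IsAlgStack Scheme.fppfPrecoverage 𝒳) (hq : AlgSt.IsQuasiDMOver 𝒳) :
    ∃ (W : Over S) (w : FibCat.overCat W ⥤ᵇ 𝒳), AlgSt.RepByAlgSpWith
      (AlgSp.LocP (@Flat ⊓ @LocallyOfFinitePresentation ⊓ @LocallyQuasiFinite) ⊓ AlgSp.IsSurjectiveMor) w := by
  have gX := h𝒳.isStack.1
  obtain ⟨U, c, hc, hcs⟩ := h𝒳.atlas
  choose V m hm hP ht using exists_lqf_chart_through h𝒳 hq c hc hcs
  let d : (∐ fun t => (V t).left) ⟶ U.left := Sigma.desc fun t => (m t).left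
  let W : Over S := Over.mk (d ≫ U.hom)
  let M : W ⟶ U := Over.homMk d rfl
  let w := BasedFunctor.comp (AlgSt.overMap M) c
  have hd : LocallyOfFinitePresentation d := IsZariskiLocalAtSource.sigmaDesc hm
  have hl : AlgSt.RepByAlgSpWith (AlgSp.LocP @LocallyOfFinitePresentation) w :=
    with_comp goodP_locP (overCat_isFibGrpd W) (overCat_isFibGrpd U) (with_locP_overMap M hd)
      (with_locP_mono smooth_le_lfp hc)
  let ι : ∀ t, V t ⟶ W := fun t => Over.homMk (Sigma.ι (fun t => (V t).left) t) (by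
    show Sigma.ι (fun t => (V t).left) t ≫ d ≫ U.hom = (V t).hom
    rw [Sigma.ι_desc_assoc]
    exact Over.w (m t))
  have hι : ∀ t, ι t ≫ M = m t := fun t => Over.OverMorphism.ext (Sigma.ι_desc _ _)
  have hf : AlgSt.RepByAlgSpWith (AlgSp.LocP FlatLqf) w := by
    refine with_flatLqf_of_pieces h𝒳 w hl fun z => ?_
    obtain ⟨t, v, hv⟩ := (sigmaOpenCover fun t => (V t).left).exists_eq z
    exact ⟨V t, ι t, inferInstanceAs (IsOpenImmersion (Sigma.ι (fun t => (V t).left) t)), ⟨v, hv⟩,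
      with_of_iso (wrIso ((overMapComp (ι t) M ≪≫ eqToIso (congrArg AlgSt.overMap (hι t))).symm) c) (hP t)⟩
  have hs : AlgSt.RepByAlgSpWith AlgSp.IsSurjectiveMor w := by
    refine with_surjective_of_isSurjective (overCat_isFibGrpd W) gX (repByAlgSp1_of_with hl)
      (isSurjective_of_surjective_ofChart fun x => ?_)
    obtain ⟨t, rfl⟩ := surjective_ofChart gX hcs x
    obtain ⟨z, hz⟩ := ht t
    refine ⟨(ι t).left z, ?_⟩
    rw [← hz, ofChart_overMap, ofChart_overMap, ← hι t]
    rfl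
  refine ⟨W, w, repByAlgSpWith_mono (fun _ _ _ _ ha => ⟨?_, ha.2⟩)
    (StAlg16.with_inf (preIso_of_pullback (GerbAbs.Chart.pbP_locP'.inf GerbAbs.Chart.pbP_locP'))
      goodP_surjective.preIso (overCat_isFibGrpd W) gX
      (StAlg16.with_inf (preIso_of_pullback GerbAbs.Chart.pbP_locP') (preIso_of_pullback GerbAbs.Chart.pbP_locP')
        (overCat_isFibGrpd W) gX hf hl) hs)⟩
  exact AlgSpace.locP_mono (P := FlatLqf ⊓ @LocallyOfFinitePresentation)
    (fun _ _ _ h => ⟨⟨h.1.1, h.2⟩, h.1.2.1⟩) (AlgSpace.locP_inf ha.1.1 ha.1.2)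

end Groth.Agent.QdmSlice16
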